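import Mathlib.Analysis.Normed.Group.Basic
import Mathlib.LinearAlgebra.FiniteDimensional.Basic
import Mathlib.LinearAlgebra.Basis.VectorSpace
import Mathlib.RingTheory.Localization.Module
import Mathlib.Data.Real.Basic
import Mathlib.Analysis.SpecificLimits.Basic

/-!
# Rational approximation of real vectors inside their rational hull
-/

namespace Groth.Agent.InstabFan

open Finset

/-- A `ℚ`-linear map `ℝ → ℚ` close to the identity on finitely many given reals. -/
theorem exists_ratLin_approx (S : Finset ℝ) {ε : ℝ} (hε : 0 < ε) :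
    ∃ f : ℝ →ₗ[ℚ] ℚ, ∀ s ∈ S, |((f s : ℚ) : ℝ) - s| < ε := by
  classical
  let b := Module.Free.chooseBasis ℚ ℝ
  let C : ℝ := 1 + ∑ s ∈ S, ∑ a ∈ (b.repr s).support, |((b.repr s a : ℚ) : ℝ)|
  have hC : 0 < C := add_pos_of_pos_of_nonneg one_pos (Finset.sum_nonneg fun s _ => Finset.sum_nonneg fun a _ => abs_nonneg _)
  have hq : ∀ a, ∃ q : ℚ, |(q : ℝ) - b a| < ε / C := fun a => by
    obtain ⟨q, h1, h2⟩ := exists_rat_btwn (show b a - ε / C < b a + ε / C by have := div_pos hε hC; linarith)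
    exact ⟨q, abs_lt.mpr ⟨by linarith, by linarith⟩⟩
  choose q hq using hq
  refine ⟨b.constr ℚ q, fun s hs => ?_⟩
  have hs' : s = ∑ a ∈ (b.repr s).support, ((b.repr s a : ℚ) : ℝ) * b a := by
    conv_lhs => rw [← b.linearCombination_repr s, Finsupp.linearCombination_apply, Finsupp.sum]
    exact Finset.sum_congr rfl fun a _ => Rat.smul_def _ _
  have hfs : ((b.constr ℚ q s : ℚ) : ℝ) = ∑ a ∈ (b.repr s).support, ((b.repr s a : ℚ) : ℝ) * (q a : ℝ) := by
    rw [Module.Basis.constr_apply, Finsupp.sum, Rat.cast_sum]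
    exact Finset.sum_congr rfl fun a _ => by rw [smul_eq_mul, Rat.cast_mul]
  rw [hfs, show (∑ a ∈ (b.repr s).support, ((b.repr s a : ℚ) : ℝ) * (q a : ℝ)) - s =
    ∑ a ∈ (b.repr s).support, (((b.repr s a : ℚ) : ℝ) * q a - ((b.repr s a : ℚ) : ℝ) * b a) by
      rw [Finset.sum_sub_distrib, ← hs']]
  calc |∑ a ∈ (b.repr s).support, (((b.repr s a : ℚ) : ℝ) * q a - ((b.repr s a : ℚ) : ℝ) * b a)|
      ≤ ∑ a ∈ (b.repr s).support, |((b.repr s a : ℚ) : ℝ) * q a - ((b.repr s a : ℚ) : ℝ) * b a| :=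
        Finset.abs_sum_le_sum_abs _ _
    _ ≤ ∑ a ∈ (b.repr s).support, |((b.repr s a : ℚ) : ℝ)| * (ε / C) :=
        Finset.sum_le_sum fun a _ => by
          rw [← mul_sub, abs_mul]; exact mul_le_mul_of_nonneg_left (hq a).le (abs_nonneg _)
    _ = (∑ a ∈ (b.repr s).support, |((b.repr s a : ℚ) : ℝ)|) * (ε / C) := (Finset.sum_mul ..).symm
    _ ≤ (C - 1) * (ε / C) := mul_le_mul_of_nonneg_right (by
          simp only [C, add_sub_cancel_left]
          exact Finset.single_le_sum (f := fun s => ∑ a ∈ (b.repr s).support, |((b.repr s a : ℚ) : ℝ)|)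
            (fun t _ => Finset.sum_nonneg fun a _ => abs_nonneg _) hs) (div_pos hε hC).le
    _ < C * (ε / C) := mul_lt_mul_of_pos_right (by linarith) (div_pos hε hC)
    _ = ε := by field_simp

section

variable {ι κ : Type*} [Fintype ι] [Fintype κ] [DecidableEq κ]

/-- The real extension of an additive map of lattices. -/
def lift (φ : (κ → ℤ) →ₗ[ℤ] (ι → ℤ)) : (κ → ℝ) →ₗ[ℝ] (ι → ℝ) where
  toFun v j := ∑ i, (φ (Pi.single i 1) j : ℝ) * v i
  map_add' v w := by funext j; simp [mul_add, Finset.sum_add_distrib]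
  map_smul' c v := by funext j; simp [Finset.mul_sum, mul_left_comm]

omit [Fintype ι] in
theorem apply_eq_sum (φ : (κ → ℤ) →ₗ[ℤ] (ι → ℤ)) (x : κ → ℤ) (j : ι) :
    φ x j = ∑ i, φ (Pi.single i 1) j * x i := by
  conv_lhs => rw [pi_eq_sum_univ' x, map_sum, Finset.sum_apply]
  exact Finset.sum_congr rfl fun i _ => by rw [map_smul, Pi.smul_apply, smul_eq_mul, mul_comm]

omit [Fintype ι] in
theorem lift_intCast (φ : (κ → ℤ) →ₗ[ℤ] (ι → ℤ)) (x : κ → ℤ) :
    lift φ (fun i => (x i : ℝ)) = fun j => (φ x j : ℝ) := by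
  funext j
  rw [apply_eq_sum φ x j]
  simp [lift]

omit [Fintype ι] in
theorem lift_nonneg (φ : (κ → ℤ) →ₗ[ℤ] (ι → ℤ)) (h : ∀ x : κ → ℤ, (∀ i, 0 ≤ x i) → ∀ j, 0 ≤ φ x j)
    {v : κ → ℝ} (hv : ∀ i, 0 ≤ v i) (j : ι) : 0 ≤ lift φ v j :=
  Finset.sum_nonneg fun i _ => mul_nonneg
    (by exact_mod_cast h (Pi.single i 1) (fun l => by by_cases hl : l = i <;> simp [hl]) j) (hv i)

theorem lift_comp {μ : Type*} [Fintype μ] [DecidableEq μ] [DecidableEq ι] (φ : (κ → ℤ) →ₗ[ℤ] (ι → ℤ))
    (ψ : (ι → ℤ) →ₗ[ℤ] (μ → ℤ)) : lift (ψ.comp φ) = (lift ψ).comp (lift φ) := by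
  refine LinearMap.ext fun v => funext fun l => ?_
  show ∑ i, ((ψ (φ (Pi.single i 1)) l : ℤ) : ℝ) * v i =
    ∑ j, (ψ (Pi.single j 1) l : ℝ) * ∑ i, (φ (Pi.single i 1) j : ℝ) * v i
  simp_rw [Finset.mul_sum, apply_eq_sum ψ (φ (Pi.single _ 1)) l, Int.cast_sum, Int.cast_mul, Finset.sum_mul]
  rw [Finset.sum_comm]
  simp [mul_assoc]

theorem lift_id : lift (LinearMap.id : (κ → ℤ) →ₗ[ℤ] (κ → ℤ)) = LinearMap.id := by
  refine LinearMap.ext fun v => funext fun l => ?_
  show ∑ i, (((Pi.single i 1 : κ → ℤ) l : ℤ) : ℝ) * v i = v l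
  rw [Finset.sum_eq_single l (fun i _ hi => by simp [Ne.symm hi]) (fun h => absurd (Finset.mem_univ _) h)]
  simp

omit [DecidableEq κ] in
/-- Integer multiples clear the denominators of a rational vector. -/
theorem exists_int_mul (q : κ → ℚ) : ∃ (D : ℕ) (z : κ → ℤ), 0 < D ∧ ∀ i, (z i : ℚ) = D * q i := by
  refine ⟨∏ i, (q i).den, fun i => ((∏ i, (q i).den : ℕ) : ℤ) / (q i).den * (q i).num,
    Finset.prod_pos fun i _ => (q i).den_pos, fun i => ?_⟩
  have hdvd : ((q i).den : ℤ) ∣ ((∏ i, (q i).den : ℕ) : ℤ) :=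
    Int.natCast_dvd_natCast.mpr (Finset.dvd_prod_of_mem (fun i => (q i).den) (Finset.mem_univ i))
  conv_rhs => rw [← Rat.num_div_den (q i)]
  have hne : ((q i).den : ℚ) ≠ 0 := by exact_mod_cast (q i).den_ne_zero
  rw [Int.cast_mul, Int.cast_div hdvd (by exact_mod_cast (q i).den_ne_zero), Int.cast_natCast,
    Int.cast_natCast]
  field_simp

omit [Fintype ι] in
theorem lift_injective {φ : (κ → ℤ) →ₗ[ℤ] (ι → ℤ)} (hφ : Function.Injective φ) :
    Function.Injective (lift φ) := by
  classical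
  refine (injective_iff_map_eq_zero _).mpr fun v hv => ?_
  by_contra hne
  obtain ⟨i₀, hi₀⟩ : ∃ i, v i ≠ 0 := by
    by_contra h; push Not at h; exact hne (funext h)
  obtain ⟨f, hf⟩ := exists_ratLin_approx (Finset.univ.image v) (abs_pos.mpr hi₀)
  obtain ⟨D, z, hD, hz⟩ := exists_int_mul fun i => f (v i)
  have hφz : φ z = 0 := by
    funext j
    have h1 : ((φ z j : ℤ) : ℚ) = (D : ℚ) * f (lift φ v j) := by
      rw [apply_eq_sum φ z j, show lift φ v j = ∑ i, (φ (Pi.single i 1) j : ℝ) * v i from rfl, map_sum,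
        Finset.mul_sum, Int.cast_sum]
      refine Finset.sum_congr rfl fun i _ => ?_
      rw [Int.cast_mul, hz, show ((φ (Pi.single i 1) j : ℤ) : ℝ) * v i = (φ (Pi.single i 1) j) • v i from
        (zsmul_eq_mul _ _).symm, map_zsmul, zsmul_eq_mul]
      ring
    rw [hv, Pi.zero_apply, map_zero, mul_zero] at h1
    exact_mod_cast h1
  have hz0 : z = 0 := hφ (hφz.trans (map_zero φ).symm)
  have hfv : f (v i₀) = 0 := by
    have := hz i₀
    rw [hz0, Pi.zero_apply, Int.cast_zero, eq_comm, mul_eq_zero] at this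
    exact this.resolve_left (by exact_mod_cast hD.ne')
  have h := hf (v i₀) (Finset.mem_image_of_mem _ (Finset.mem_univ i₀))
  rw [hfv, Rat.cast_zero, zero_sub, abs_neg] at h
  exact lt_irrefl _ h

end

/-- Every nonzero nonnegative real vector is a positive combination of linearly independent nonnegative
integer vectors satisfying all the integral linear relations satisfied by it. -/
theorem exists_int_cone {ι : Type*} [Fintype ι] (v : ι → ℝ) (hv : ∀ i, 0 ≤ v i) (hv0 : v ≠ 0) :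
    ∃ (d : ℕ+) (φ : (Fin d → ℤ) →ₗ[ℤ] (ι → ℤ)) (y : Fin d → ℝ), Function.Injective φ ∧
      (∀ x, (∀ a, 0 ≤ x a) → ∀ j, 0 ≤ φ x j) ∧ (∀ a, 0 < y a) ∧ lift φ y = v ∧
      ∀ l : ι → ℤ, ∑ i, (l i : ℝ) * v i = 0 → ∀ x, ∑ i, l i * φ x i = 0 := by
  classical
  induction hN : (Finset.univ.filter fun i => v i ≠ 0).card using Nat.strong_induction_on generalizing v with
  | _ N ih =>
    obtain ⟨i₀', hi₀'⟩ : ∃ i, v i ≠ 0 := by
      by_contra h; push Not at h; exact hv0 (funext h)
    set S := Finset.univ.filter fun i => v i ≠ 0 with hS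
    have hSne : S.Nonempty := ⟨i₀', by simp [hS, hi₀']⟩
    have hmemS : ∀ {i}, i ∈ S ↔ v i ≠ 0 := fun {i} => by simp [hS]
    obtain ⟨f, hf⟩ := exists_ratLin_approx (Finset.univ.image v) (ε := S.inf' hSne v)
      ((Finset.lt_inf'_iff _).mpr fun i hi => lt_of_le_of_ne (hv i) (Ne.symm (hmemS.mp hi)))
    obtain ⟨D, u, hD, hu⟩ := exists_int_mul fun i => f (v i)
    have hupos : ∀ i ∈ S, 0 < u i := fun i hi => by
      have h1 := (abs_lt.mp (hf (v i) (Finset.mem_image_of_mem _ (Finset.mem_univ i)))).1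
      have h2 : S.inf' hSne v ≤ v i := Finset.inf'_le _ hi
      have h3 : (0 : ℚ) < f (v i) := by exact_mod_cast (show (0 : ℝ) < (f (v i) : ℝ) by linarith)
      have h4 : (0 : ℚ) < (u i : ℚ) := by rw [hu]; exact mul_pos (by exact_mod_cast hD) h3
      exact_mod_cast h4
    have huzero : ∀ i, v i = 0 → u i = 0 := fun i hi => by
      have h := hu i; rw [hi, map_zero, mul_zero] at h; exact_mod_cast h
    have hunn : ∀ i, 0 ≤ u i := fun i => by
      rcases eq_or_ne (v i) 0 with h | h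
      · exact (huzero i h).symm.le
      · exact (hupos i (hmemS.mpr h)).le
    have hrel : ∀ l : ι → ℤ, ∑ i, (l i : ℝ) * v i = 0 → ∑ i, l i * u i = 0 := fun l hl => by
      have h : ((∑ i, l i * u i : ℤ) : ℚ) = (D : ℚ) * f (∑ i, (l i : ℝ) * v i) := by
        rw [map_sum, Finset.mul_sum, Int.cast_sum]
        refine Finset.sum_congr rfl fun i _ => ?_
        rw [Int.cast_mul, hu, show ((l i : ℤ) : ℝ) * v i = (l i) • v i from (zsmul_eq_mul _ _).symm,
          map_zsmul, zsmul_eq_mul]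
        ring
      rw [hl, map_zero, mul_zero] at h
      exact_mod_cast h
    obtain ⟨i₀, hi₀, hmin⟩ := S.exists_min_image (fun i => v i / (u i : ℝ)) hSne
    set t : ℝ := v i₀ / (u i₀ : ℝ) with ht
    have hu0 : (0 : ℝ) < (u i₀ : ℝ) := by exact_mod_cast hupos i₀ hi₀
    have htpos : 0 < t := div_pos (lt_of_le_of_ne (hv i₀) (Ne.symm (hmemS.mp hi₀))) hu0
    set v' : ι → ℝ := fun i => v i - t * u i with hv'
    have hv'0 : v' i₀ = 0 := by simp [hv', ht, div_mul_cancel₀ _ hu0.ne']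
    have hv'nn : ∀ i, 0 ≤ v' i := fun i => by
      rcases eq_or_ne (v i) 0 with h | h
      · simp [hv', h, huzero i h]
      · exact sub_nonneg.mpr ((le_div_iff₀ (by exact_mod_cast hupos i (hmemS.mpr h))).mp (hmin i (hmemS.mpr h)))
    by_cases hz : v' = 0
    · haveI : Subsingleton (Fin ((1 : ℕ+) : ℕ)) := inferInstanceAs (Subsingleton (Fin 1))
      refine ⟨1, LinearMap.smulRight (LinearMap.proj (0 : Fin ((1 : ℕ+) : ℕ))) u, fun _ => t, ?_, ?_, fun _ => htpos,
        funext fun j => ?_, fun l hl x => ?_⟩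
      · intro x x' hxx
        funext a
        obtain rfl := Subsingleton.elim a (0 : Fin ((1 : ℕ+) : ℕ))
        exact mul_right_cancel₀ (hupos i₀ hi₀).ne' (congr_fun hxx i₀)
      · intro x hx j
        exact mul_nonneg (hx _) (hunn j)
      · have h := congr_fun hz j
        simp only [hv', Pi.zero_apply, sub_eq_zero] at h
        rw [h]
        show ∑ a, ((((Pi.single a 1 : Fin ((1 : ℕ+) : ℕ) → ℤ) 0) * u j : ℤ) : ℝ) * t = t * u j
        rw [Fintype.sum_subsingleton _ (0 : Fin ((1 : ℕ+) : ℕ)), Pi.single_eq_same, one_mul, mul_comm]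
      · show ∑ i, l i * (x 0 * u i) = 0
        rw [Finset.sum_congr rfl (fun i _ => mul_left_comm (l i) (x 0) (u i))]
        rw [← Finset.mul_sum, hrel l hl, mul_zero]
    · have hlt : (Finset.univ.filter fun i => v' i ≠ 0).card < N := by
        rw [← hN]
        refine Finset.card_lt_card ((Finset.ssubset_iff_of_subset fun i hi => ?_).mpr ⟨i₀, hi₀, by simp [hv'0]⟩)
        rw [hmemS]
        intro h
        simp [hv', h, huzero i h] at hi
      obtain ⟨d, φ, y, hinj, hnn, hy, hsum, hker⟩ := ih _ hlt v' hv'nn hz rfl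
      have hsum' : ∀ l : ι → ℤ, ∑ i, (l i : ℝ) * v i = 0 → ∑ i, (l i : ℝ) * v' i = 0 := fun l hl => by
        have h2 : ∑ i, (l i : ℝ) * (u i : ℝ) = 0 := by exact_mod_cast hrel l hl
        simp only [hv', mul_sub, Finset.sum_sub_distrib, hl, mul_left_comm _ t, ← Finset.mul_sum, h2, mul_zero,
          sub_zero]
      have hφ0 : ∀ x, φ x i₀ = 0 := fun x => by
        have h := hker (Pi.single i₀ 1) (by
          rw [Finset.sum_eq_single i₀ (fun i _ hi => by simp [hi]) (fun h => absurd (Finset.mem_univ _) h)]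
          simp [hv'0]) x
        rw [Finset.sum_eq_single i₀ (fun i _ hi => by simp [hi]) (fun h => absurd (Finset.mem_univ _) h)] at h
        simpa using h
      let e : Fin ((d + 1 : ℕ+) : ℕ) ≃ Fin ((d : ℕ) + 1) := finCongr (PNat.add_coe d 1)
      let Φ : (Fin ((d + 1 : ℕ+) : ℕ) → ℤ) →ₗ[ℤ] (ι → ℤ) :=
        LinearMap.smulRight (LinearMap.proj (e.symm (Fin.last d))) u +
          φ.comp (LinearMap.funLeft ℤ ℤ (e.symm ∘ Fin.castSucc))
      have hΦ : ∀ x j, Φ x j = x (e.symm (Fin.last d)) * u j + φ (fun a => x (e.symm a.castSucc)) j := fun _ _ => rfl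
      refine ⟨d + 1, Φ, (Fin.snoc y t : Fin ((d : ℕ) + 1) → ℝ) ∘ e, ?_, ?_, ?_, funext fun j => ?_, fun l hl x => ?_⟩
      · refine (injective_iff_map_eq_zero _).mpr fun x hx => ?_
        have h1 := congr_fun hx i₀
        rw [hΦ, hφ0, add_zero, Pi.zero_apply, mul_eq_zero] at h1
        have hlast := h1.resolve_right (hupos i₀ hi₀).ne'
        have h2 : φ (fun a => x (e.symm a.castSucc)) = 0 := funext fun j => by
          have h := congr_fun hx j
          rwa [hΦ, hlast, zero_mul, zero_add] at h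
        have h3 := hinj (h2.trans (map_zero φ).symm)
        funext a
        obtain ⟨b, rfl⟩ := e.symm.surjective a
        induction b using Fin.lastCases with
        | last => exact hlast
        | cast a => exact congr_fun h3 a
      · intro x hx j
        rw [hΦ]
        exact add_nonneg (mul_nonneg (hx _) (hunn j)) (hnn _ (fun a => hx _) j)
      · intro a
        obtain ⟨b, rfl⟩ := e.symm.surjective a
        induction b using Fin.lastCases with
        | last =>
          show 0 < (Fin.snoc y t : Fin ((d : ℕ) + 1) → ℝ) (e (e.symm (Fin.last d)))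
          rw [Equiv.apply_symm_apply, Fin.snoc_last]; exact htpos
        | cast a =>
          show 0 < (Fin.snoc y t : Fin ((d : ℕ) + 1) → ℝ) (e (e.symm a.castSucc))
          rw [Equiv.apply_symm_apply, Fin.snoc_castSucc]; exact hy a
      · have h : v' j = ∑ a, (φ (Pi.single a 1) j : ℝ) * y a := (congr_fun hsum j).symm
        show ∑ a, (Φ (Pi.single a 1) j : ℝ) * ((Fin.snoc y t : Fin ((d : ℕ) + 1) → ℝ) (e a)) = v j
        rw [← e.symm.sum_comp, Fin.sum_univ_castSucc]
        simp only [Equiv.apply_symm_apply, Fin.snoc_castSucc, Fin.snoc_last, hΦ]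
        have hlast : (fun a : Fin (d : ℕ) => (Pi.single (e.symm (Fin.last d)) 1 : Fin ((d + 1 : ℕ+) : ℕ) → ℤ) (e.symm a.castSucc)) = 0 :=
          funext fun a => Pi.single_eq_of_ne (fun hh => (Fin.castSucc_lt_last a).ne (e.symm.injective hh)) _
        have hcast : ∀ a : Fin (d : ℕ), (fun b : Fin (d : ℕ) => (Pi.single (e.symm a.castSucc) 1 : Fin ((d + 1 : ℕ+) : ℕ) → ℤ) (e.symm b.castSucc)) = Pi.single a 1 :=
          fun a => funext fun b => by
            rcases eq_or_ne b a with rfl | hb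
            · exact (Pi.single_eq_same (M := fun _ => ℤ) _ _).trans (Pi.single_eq_same (M := fun _ => ℤ) _ _).symm
            · rw [Pi.single_eq_of_ne hb, Pi.single_eq_of_ne (fun hh => hb (Fin.castSucc_injective _ (e.symm.injective hh)))]
        simp only [hlast, map_zero, Pi.zero_apply, add_zero, Pi.single_eq_same, one_mul, hcast,
          Pi.single_eq_of_ne (fun hh => (Fin.castSucc_lt_last _).ne' (e.symm.injective hh)), zero_mul, zero_add, ← h]
        simp [hv', mul_comm]
      · simp only [hΦ, mul_add, Finset.sum_add_distrib, hker l (hsum' l hl), add_zero, mul_left_comm _ (x _)]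
        rw [← Finset.mul_sum, hrel l hl, mul_zero]

end Groth.Agent.InstabFan
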