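import Groth.Prelude.Def_W4c6instabfans3Fan
import Groth.Agent.InstabFan.Rational

/-!
# Points of the projective realization of a formal fan
-/

universe u

open CategoryTheory Opposite

namespace Groth.Agent.InstabFan

open Instab Instab.Fan

variable {F G : Fan.{u}}

theorem realMap_eq_lift {k n : ICone} (φ : k ⟶ n) (v : Fin k.dim → ℝ) :
    φ.realMap v = lift φ.toLin v := rfl

theorem realMap_id (n : ICone) (v : Fin n.dim → ℝ) : (𝟙 n : n ⟶ n).realMap v = v := by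
  rw [realMap_eq_lift, show (𝟙 n : n ⟶ n).toLin = LinearMap.id from rfl, lift_id]; rfl

theorem realMap_comp {k l n : ICone} (a : k ⟶ l) (b : l ⟶ n) (v : Fin k.dim → ℝ) :
    (a ≫ b).realMap v = b.realMap (a.realMap v) := by
  rw [realMap_eq_lift, show (a ≫ b).toLin = b.toLin.comp a.toLin from rfl, lift_comp]; rfl

theorem realMap_smul {k n : ICone} (φ : k ⟶ n) (c : ℝ) (v : Fin k.dim → ℝ) :
    φ.realMap (c • v) = c • φ.realMap v := map_smul (lift φ.toLin) c v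

theorem realMap_injective {k n : ICone} (φ : k ⟶ n) : Function.Injective φ.realMap :=
  lift_injective φ.injective

/-- The image of a point of the orthant under a cone morphism. -/
def push {k n : ICone} (φ : k ⟶ n) (v : Orth k) : Orth n :=
  ⟨φ.realMap v.1, fun j => lift_nonneg φ.toLin φ.nonneg v.2.1 j, fun h =>
    v.2.2 (realMap_injective φ (h.trans (map_zero (lift φ.toLin)).symm))⟩

/-- A positive multiple of a point of the orthant. -/
def scale {n : ICone} (c : ℝ) (hc : 0 < c) (v : Orth n) : Orth n :=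
  ⟨c • v.1, fun i => mul_nonneg hc.le (v.2.1 i), smul_ne_zero hc.ne' v.2.2⟩

theorem mk_glue {k n : ICone} (φ : k ⟶ n) (ξ : F.obj (op n)) (v : Orth k) (w : Orth n) (c : ℝ) (hc : 0 < c)
    (h : w.1 = c • φ.realMap v.1) : P.mk (F.map φ.op ξ) v = P.mk ξ w :=
  Quot.sound (Rel.glue φ ξ v w c hc h)

theorem mk_eq_of_smul {n : ICone} (ξ : F.obj (op n)) {v w : Orth n} {c : ℝ} (hc : 0 < c) (h : w.1 = c • v.1) :
    P.mk ξ v = P.mk ξ w := by
  have h1 := mk_glue (𝟙 n) ξ v w c hc (by rw [realMap_id]; exact h)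
  rwa [op_id, Functor.map_id_apply] at h1

theorem mk_map_push {k n : ICone} (φ : k ⟶ n) (ξ : F.obj (op n)) (v : Orth k) :
    P.mk (F.map φ.op ξ) v = P.mk ξ (push φ v) :=
  mk_glue φ ξ v _ 1 one_pos (one_smul ℝ _).symm

theorem exists_mk (x : P F) : ∃ (n : ICone) (ξ : F.obj (op n)) (v : Orth n), P.mk ξ v = x := by
  induction x using Quot.ind with
  | mk p => exact ⟨p.1.1, p.1.2, p.2, rfl⟩

theorem map_mk (f : F ⟶ G) {n : ICone} (ξ : F.obj (op n)) (v : Orth n) :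
    P.map f (P.mk ξ v) = P.mk (f.app _ ξ) v := rfl

theorem map_comp {H : Fan.{u}} (f : F ⟶ G) (g : G ⟶ H) (x : P F) : P.map (f ≫ g) x = P.map g (P.map f x) := by
  obtain ⟨n, ξ, v, rfl⟩ := exists_mk x
  rfl

theorem map_cell (f : F ⟶ G) {n : ICone} (ξ : F.obj (op n)) : P.map f '' P.cell ξ = P.cell (f.app _ ξ) := by
  rw [P.cell, ← Set.range_comp]; rfl

/-- Two cones with vectors have a common subcone carrying both vectors. -/
def Sim (p q : Pt F) : Prop :=
  ∃ (k : ICone) (φ₁ : k ⟶ p.1.1) (φ₂ : k ⟶ q.1.1) (y : Orth k) (c₁ c₂ : ℝ),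
    F.map φ₁.op p.1.2 = F.map φ₂.op q.1.2 ∧ 0 < c₁ ∧ 0 < c₂ ∧
      p.2.1 = c₁ • φ₁.realMap y.1 ∧ q.2.1 = c₂ • φ₂.realMap y.1

theorem Sim.symm {p q : Pt F} : Sim p q → Sim q p :=
  fun ⟨k, φ₁, φ₂, y, c₁, c₂, h, h₁, h₂, e₁, e₂⟩ => ⟨k, φ₂, φ₁, y, c₂, c₁, h.symm, h₂, h₁, e₂, e₁⟩

theorem sum_elim_ne_zero {α β : Type*} {a : α → ℝ} (b : β → ℝ) (ha : a ≠ 0) : Sum.elim a b ≠ 0 :=
  fun h => ha (funext fun i => congr_fun h (Sum.inl i))

/-- Two cone morphisms agreeing on real points factor through a common subcone through these points. -/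
theorem exists_refine {k k' n : ICone} (φ : k ⟶ n) (ψ : k' ⟶ n) (y : Orth k) (y' : Fin k'.dim → ℝ)
    (hy' : ∀ i, 0 ≤ y' i) (h : φ.realMap y.1 = ψ.realMap y') :
    ∃ (l : ICone) (a : l ⟶ k) (b : l ⟶ k') (z : Orth l), a ≫ φ = b ≫ ψ ∧ a.realMap z.1 = y.1 ∧
      b.realMap z.1 = y' := by
  classical
  obtain ⟨d, Φ, z, hinj, hnn, hz, hlift, hker⟩ := exists_int_cone (Sum.elim y.1 y')
    (fun i => by cases i with | inl i => exact y.2.1 i | inr i => exact hy' i)
    (sum_elim_ne_zero y' y.2.2)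
  let A : (Fin d → ℤ) →ₗ[ℤ] (Fin k.dim → ℤ) := (LinearMap.funLeft ℤ ℤ Sum.inl).comp Φ
  let B : (Fin d → ℤ) →ₗ[ℤ] (Fin k'.dim → ℤ) := (LinearMap.funLeft ℤ ℤ Sum.inr).comp Φ
  have hcomp : φ.toLin.comp A = ψ.toLin.comp B := by
    refine LinearMap.ext fun x => funext fun j => ?_
    have h0 := hker (Sum.elim (fun i => φ.toLin (Pi.single i 1) j) (fun i => -ψ.toLin (Pi.single i 1) j)) (by
      have h1 := congr_fun h j
      rw [Fintype.sum_sum_type]
      simp only [Sum.elim_inl, Sum.elim_inr, Int.cast_neg, neg_mul, Finset.sum_neg_distrib]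
      rw [← sub_eq_add_neg, sub_eq_zero]
      exact h1) x
    rw [Fintype.sum_sum_type] at h0
    simp only [Sum.elim_inl, Sum.elim_inr, neg_mul, Finset.sum_neg_distrib, ← sub_eq_add_neg, sub_eq_zero] at h0
    show φ.toLin (A x) j = ψ.toLin (B x) j
    rw [apply_eq_sum φ.toLin (A x), apply_eq_sum ψ.toLin (B x)]
    exact h0
  have hA : Function.Injective A := fun x x' hx => by
    have hB : B x = B x' := ψ.injective (by
      have h1 := LinearMap.congr_fun hcomp x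
      have h2 := LinearMap.congr_fun hcomp x'
      simp only [LinearMap.comp_apply] at h1 h2
      rw [← h1, ← h2, hx])
    refine hinj (funext fun i => ?_)
    cases i with
    | inl i => exact congr_fun hx i
    | inr i => exact congr_fun hB i
  have hB : Function.Injective B := fun x x' hx => hA (φ.injective (by
    have h1 := LinearMap.congr_fun hcomp x
    have h2 := LinearMap.congr_fun hcomp x'
    simp only [LinearMap.comp_apply] at h1 h2
    rw [h1, h2, hx]))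
  refine ⟨⟨d⟩, ⟨A, hA, fun x hx j => hnn x hx _⟩, ⟨B, hB, fun x hx j => hnn x hx _⟩,
    ⟨z, fun i => (hz i).le, fun h0 => (hz ⟨0, d.pos⟩).ne' (congr_fun h0 _)⟩, ICone.Hom.ext hcomp,
    funext fun i => congr_fun hlift (Sum.inl i), funext fun i => congr_fun hlift (Sum.inr i)⟩

theorem Sim.trans {p q r : Pt F} : Sim p q → Sim q r → Sim p r := by
  rintro ⟨k, φ₁, φ₂, y, c₁, c₂, h, hc₁, hc₂, e₁, e₂⟩ ⟨k', ψ₂, ψ₃, y', d₂, d₃, h', hd₂, hd₃, f₂, f₃⟩
  have hy' : φ₂.realMap y.1 = ψ₂.realMap ((d₂ / c₂) • y'.1) := by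
    rw [realMap_smul, div_eq_inv_mul, mul_smul, ← f₂, e₂, smul_smul, inv_mul_cancel₀ hc₂.ne', one_smul]
  obtain ⟨l, a, b, z, hab, ha, hb⟩ := exists_refine φ₂ ψ₂ y ((d₂ / c₂) • y'.1)
    (fun i => mul_nonneg (div_pos hd₂ hc₂).le (y'.2.1 i)) hy'
  refine ⟨l, a ≫ φ₁, b ≫ ψ₃, z, c₁, d₃ / (d₂ / c₂), ?_, hc₁, div_pos hd₃ (div_pos hd₂ hc₂), ?_, ?_⟩
  · simp only [op_comp, Functor.map_comp_apply]
    rw [h, ← h', ← Functor.map_comp_apply, ← Functor.map_comp_apply, ← op_comp, ← op_comp, hab]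
  · rw [realMap_comp, ha]; exact e₁
  · rw [realMap_comp, hb, realMap_smul, smul_smul, div_mul_cancel₀ _ (div_pos hd₂ hc₂).ne']; exact f₃

theorem Sim.refl (p : Pt F) : Sim p p :=
  ⟨p.1.1, 𝟙 _, 𝟙 _, p.2, 1, 1, rfl, one_pos, one_pos, by rw [realMap_id, one_smul], by rw [realMap_id, one_smul]⟩

theorem sim_of_eq {p q : Pt F} (h : Quot.mk (Rel F) p = Quot.mk (Rel F) q) : Sim p q := by
  have h' := Quot.eqvGen_exact h
  clear h
  induction h' with
  | rel x y hxy =>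
    obtain ⟨φ, ξ, v, w, c, hc, e⟩ := hxy
    exact ⟨_, 𝟙 _, φ, v, 1, c, by simp, one_pos, hc, by rw [realMap_id, one_smul], e⟩
  | refl x => exact Sim.refl x
  | symm _ _ _ ih => exact ih.symm
  | trans _ _ _ _ _ ih ih' => exact ih.trans ih'

theorem mk_eq_mk_iff {n₁ n₂ : ICone} (σ₁ : F.obj (op n₁)) (σ₂ : F.obj (op n₂)) (v₁ : Orth n₁) (v₂ : Orth n₂) :
    P.mk σ₁ v₁ = P.mk σ₂ v₂ ↔ ∃ (k : ICone) (φ₁ : k ⟶ n₁) (φ₂ : k ⟶ n₂) (y : Orth k) (c₁ c₂ : ℝ),
      F.map φ₁.op σ₁ = F.map φ₂.op σ₂ ∧ 0 < c₁ ∧ 0 < c₂ ∧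
        v₁.1 = c₁ • φ₁.realMap y.1 ∧ v₂.1 = c₂ • φ₂.realMap y.1 := by
  refine ⟨fun h => sim_of_eq h, fun ⟨k, φ₁, φ₂, y, c₁, c₂, h, h₁, h₂, e₁, e₂⟩ => ?_⟩
  rw [← mk_glue φ₁ σ₁ y v₁ c₁ h₁ e₁, ← mk_glue φ₂ σ₂ y v₂ c₂ h₂ e₂, h]

/-! ### Elements of fibre products -/

theorem coneMap_app {n k : ICone} (σ : F.obj (op n)) (φ : k ⟶ n) :
    (coneMap σ).app (op k) (ULift.up φ) = F.map φ.op σ := rfl

theorem coneMap_comp (f : F ⟶ G) {n : ICone} (σ : F.obj (op n)) :
    coneMap σ ≫ f = coneMap (f.app _ σ) :=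
  uliftYonedaEquiv_symm_comp σ f

theorem coneMap_id {n : ICone} (σ : F.obj (op n)) : (coneMap σ).app (op n) (ULift.up (𝟙 n)) = σ := by
  rw [coneMap_app, op_id, Functor.map_id_apply]

theorem coneMap_injective {n : ICone} : Function.Injective (coneMap : F.obj (op n) → _) :=
  uliftYonedaEquiv.{u}.symm.injective

variable {F' : Fan.{u}} (f : F ⟶ G) (g : F' ⟶ G)

theorem exists_pullback_elem {n : ICone} {a : F.obj (op n)} {b : F'.obj (op n)}
    (h : f.app _ a = g.app _ b) :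
    ∃ e : (Limits.pullback f g).obj (op n), (Limits.pullback.fst f g).app _ e = a ∧
      (Limits.pullback.snd f g).app _ e = b := by
  let l := Limits.pullback.lift (coneMap a) (coneMap b) (by rw [coneMap_comp, coneMap_comp, h])
  refine ⟨l.app _ (ULift.up (𝟙 n)), ?_, ?_⟩
  · exact (congrArg (fun T : uliftYoneda.{u}.obj n ⟶ F => T.app (op n) (ULift.up (𝟙 n)))
      (Limits.pullback.lift_fst _ _ _)).trans (coneMap_id a)
  · exact (congrArg (fun T : uliftYoneda.{u}.obj n ⟶ F' => T.app (op n) (ULift.up (𝟙 n)))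
      (Limits.pullback.lift_snd _ _ _)).trans (coneMap_id b)

theorem pullback_condition_app {n : ICone} (e : (Limits.pullback f g).obj (op n)) :
    f.app _ ((Limits.pullback.fst f g).app _ e) = g.app _ ((Limits.pullback.snd f g).app _ e) :=
  congrArg (fun T : Limits.pullback f g ⟶ G => T.app (op n) e) Limits.pullback.condition

theorem pullback_elem_ext {n : ICone} {e e' : (Limits.pullback f g).obj (op n)}
    (h₁ : (Limits.pullback.fst f g).app _ e = (Limits.pullback.fst f g).app _ e')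
    (h₂ : (Limits.pullback.snd f g).app _ e = (Limits.pullback.snd f g).app _ e') : e = e' := by
  refine coneMap_injective (Limits.pullback.hom_ext ?_ ?_)
  · rw [coneMap_comp, coneMap_comp, h₁]
  · rw [coneMap_comp, coneMap_comp, h₂]

/-- The projective realization of a fibre product surjects onto the fibre product. -/
theorem exists_pullback_lift (x : P F) (x' : P F') (h : P.map f x = P.map g x') :
    ∃ y : P (Limits.pullback f g),
      P.map (Limits.pullback.fst f g) y = x ∧ P.map (Limits.pullback.snd f g) y = x' := by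
  obtain ⟨n, σ, v, rfl⟩ := exists_mk x
  obtain ⟨n', σ', v', rfl⟩ := exists_mk x'
  rw [map_mk, map_mk, mk_eq_mk_iff] at h
  obtain ⟨k, φ₁, φ₂, y, c₁, c₂, h, h₁, h₂, e₁, e₂⟩ := h
  obtain ⟨e, he₁, he₂⟩ := exists_pullback_elem f g (a := F.map φ₁.op σ) (b := F'.map φ₂.op σ')
    (by rw [NatTrans.naturality_apply f φ₁.op σ, NatTrans.naturality_apply g φ₂.op σ']; exact h)
  exact ⟨P.mk e y, by rw [map_mk, he₁]; exact mk_glue _ _ _ _ c₁ h₁ e₁,
    by rw [map_mk, he₂]; exact mk_glue _ _ _ _ c₂ h₂ e₂⟩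

end Groth.Agent.InstabFan
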