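import Groth.Agent.InstabFan.Basic
import Mathlib.Analysis.Convex.StdSimplex
import Mathlib.Analysis.Normed.Module.FiniteDimension
import Mathlib.Topology.Sequences

/-!
# Bounded maps of formal fans and the topology of the projective realization
-/

universe u

open CategoryTheory Opposite Topology

namespace Groth.Agent.InstabFan

open Instab Instab.Fan

variable {F G : Fan.{u}}

theorem mk_scale {n : ICone} (ξ : F.obj (op n)) (c : ℝ) (hc : 0 < c) (v : Orth n) :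
    P.mk ξ (scale c hc v) = P.mk ξ v :=
  (mk_eq_of_smul ξ hc rfl).symm

theorem push_scale {k n : ICone} (φ : k ⟶ n) (c : ℝ) (hc : 0 < c) (v : Orth k) :
    (push φ (scale c hc v)).1 = c • φ.realMap v.1 := realMap_smul φ c v.1

theorem push_id {n : ICone} (v : Orth n) : push (𝟙 n) v = v := Subtype.ext (realMap_id n v.1)

/-! ### Points of representable fans -/

theorem mk_yoneda_eq {n k k' : ICone} (a : (uliftYoneda.{u}.obj n).obj (op k))
    (b : (uliftYoneda.{u}.obj n).obj (op k')) (y : Orth k) (y' : Orth k') (h : P.mk a y = P.mk b y') :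
    ∃ c : ℝ, 0 < c ∧ b.down.realMap y'.1 = c • a.down.realMap y.1 := by
  obtain ⟨l, φ₁, φ₂, z, c₁, c₂, h, h₁, h₂, e₁, e₂⟩ := (mk_eq_mk_iff a b y y').mp h
  have h' : φ₁ ≫ a.down = φ₂ ≫ b.down := congrArg ULift.down h
  refine ⟨c₂ / c₁, div_pos h₂ h₁, ?_⟩
  rw [e₁, e₂, realMap_smul, realMap_smul, smul_smul, div_mul_cancel₀ _ h₁.ne', ← realMap_comp, ← realMap_comp, h']

theorem map_coneMap_id {n : ICone} (ξ : G.obj (op n)) (v : Orth n) :
    P.map (coneMap ξ) (P.mk (F := uliftYoneda.{u}.obj n) (ULift.up (𝟙 n)) v) = P.mk ξ v :=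
  congrArg (fun t => P.mk t v) (coneMap_id ξ)

/-- Along a bounded map, finitely many cones lie over each cone and catch all preimages of its points. -/
theorem exists_range_cells {ψ : F ⟶ G} (hψ : IsBoundedMap ψ) {n : ICone} (ξ : G.obj (op n)) :
    ∃ s : Finset (Σ k : ICone, F.obj (op k) × (k ⟶ n)),
      (∀ e ∈ s, ψ.app _ e.2.1 = G.map e.2.2.op ξ) ∧
      ∀ (x : P F) (v : Orth n), P.map ψ x = P.mk ξ v →
        ∃ e ∈ s, ∃ y : Orth e.1, push e.2.2 y = v ∧ P.mk e.2.1 y = x := by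
  classical
  obtain ⟨t, ht⟩ := hψ n ξ
  refine ⟨t.image fun e => ⟨e.1, (Limits.pullback.fst ψ (coneMap ξ)).app _ e.2,
    ((Limits.pullback.snd ψ (coneMap ξ)).app _ e.2).down⟩, ?_, ?_⟩
  · rintro _ he
    obtain ⟨⟨k, e⟩, -, rfl⟩ := Finset.mem_image.mp he
    exact pullback_condition_app ψ (coneMap ξ) e
  · intro x v hxv
    obtain ⟨p, hp₁, hp₂⟩ := exists_pullback_lift ψ (coneMap ξ) x (P.mk (ULift.up (𝟙 n)) v)
      (hxv.trans (map_coneMap_id ξ v).symm)
    obtain ⟨⟨k, e⟩, he, y, rfl⟩ := ht p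
    rw [map_mk] at hp₁ hp₂
    obtain ⟨c, hc, hcv⟩ := mk_yoneda_eq _ _ _ _ hp₂
    refine ⟨_, Finset.mem_image_of_mem _ he, scale c hc y, Subtype.ext ?_, (mk_scale _ c hc y).trans hp₁⟩
    rw [push_scale]
    exact hcv.symm.trans (realMap_id n v.1)

theorem isBoundedMap_coneMap (hG : G.IsQuasiSeparated) {n' : ICone} (ξ' : G.obj (op n')) :
    IsBoundedMap (coneMap ξ') := fun n σ => hG n' n ξ' σ

/-- Finitely many common subcones identify all glued points of two cones. -/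
theorem exists_pairs (hG : G.IsQuasiSeparated) {n n' : ICone} (ξ : G.obj (op n)) (ξ' : G.obj (op n')) :
    ∃ s : Finset (Σ k : ICone, (k ⟶ n) × (k ⟶ n')),
      (∀ e ∈ s, G.map e.2.1.op ξ = G.map e.2.2.op ξ') ∧
      ∀ (v : Orth n) (w : Orth n'), P.mk ξ v = P.mk ξ' w ↔
        ∃ e ∈ s, ∃ (y : Orth e.1) (c : ℝ), 0 < c ∧ push e.2.1 y = v ∧ w.1 = c • e.2.2.realMap y.1 := by
  classical
  obtain ⟨t, ht₁, ht₂⟩ := exists_range_cells (isBoundedMap_coneMap hG ξ') ξ
  refine ⟨t.image fun e => ⟨e.1, e.2.2, e.2.1.down⟩, ?_, ?_⟩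
  · rintro _ he
    obtain ⟨e, he', rfl⟩ := Finset.mem_image.mp he
    exact (ht₁ e he').symm
  · intro v w
    constructor
    · intro h
      obtain ⟨e, he, y, hyv, hyw⟩ := ht₂ (P.mk (ULift.up (𝟙 n')) w) v ((map_coneMap_id ξ' w).trans h.symm)
      obtain ⟨c, hc, hcw⟩ := mk_yoneda_eq _ _ _ _ hyw
      exact ⟨_, Finset.mem_image_of_mem _ he, y, c, hc, hyv, (realMap_id n' w.1).symm.trans hcw⟩
    · rintro ⟨_, he, y, c, hc, hyv, hyw⟩
      obtain ⟨e, he', rfl⟩ := Finset.mem_image.mp he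
      rw [← hyv]
      exact (mk_eq_mk_iff _ _ _ _).mpr ⟨e.1, _, _, y, 1, c, (ht₁ e he').symm, one_pos, hc, (one_smul ℝ _).symm, hyw⟩

/-! ### Topology -/

theorem isClosed_iff (S : Set (P F)) :
    IsClosed S ↔ ∀ (n : ICone) (ξ : F.obj (op n)), IsClosed (P.mk ξ ⁻¹' S) := by
  rw [show IsClosed S ↔ IsClosed (Quot.mk (Rel F) ⁻¹' S) from isClosed_coinduced]
  exact isClosed_sigma_iff.trans ⟨fun h n ξ => h ⟨n, ξ⟩, fun h e => h e.1 e.2⟩

theorem continuous_mk {n : ICone} (ξ : F.obj (op n)) : Continuous (P.mk ξ) :=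
  continuous_quot_mk.comp (continuous_sigmaMk (ι := Σ n : ICone, F.obj (op n)) (σ := fun e => Orth e.1) (i := ⟨n, ξ⟩))

theorem continuous_map (f : F ⟶ G) : Continuous (P.map f) :=
  continuous_iff_isClosed.mpr fun S hS =>
    (isClosed_iff _).mpr fun n ξ => (isClosed_iff S).mp hS n (f.app _ ξ)

theorem continuous_val {n : ICone} : Continuous fun v : Orth n => v.1 := continuous_subtype_val

theorem isClosedEmbedding_push {k n : ICone} (φ : k ⟶ n) : IsClosedEmbedding (push φ) := by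
  have hL : IsClosedEmbedding (lift φ.toLin) :=
    LinearMap.isClosedEmbedding_of_injective (LinearMap.ker_eq_bot.mpr (lift_injective φ.injective))
  have hcont : Continuous (push φ) := Continuous.subtype_mk (hL.continuous.comp continuous_val) _
  refine IsClosedEmbedding.of_continuous_injective_isClosedMap hcont
    (fun v w h => Subtype.ext (realMap_injective φ (congrArg Subtype.val h))) fun S hS => ?_
  obtain ⟨T, hT, rfl⟩ := isClosed_induced_iff.mp hS
  have hnn : IsClosed {v : Fin k.dim → ℝ | ∀ i, 0 ≤ v i} := by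
    simp only [Set.setOf_forall]
    exact isClosed_iInter fun i => isClosed_le continuous_const (continuous_apply i)
  refine isClosed_induced_iff.mpr ⟨lift φ.toLin '' (T ∩ {v | ∀ i, 0 ≤ v i}), hL.isClosedMap _ (hT.inter hnn), ?_⟩
  ext w
  constructor
  · rintro ⟨v, ⟨hvT, hvn⟩, hvw⟩
    exact ⟨⟨v, hvn, fun h => w.2.2 (by rw [← hvw, h, map_zero])⟩, hvT, Subtype.ext hvw⟩
  · rintro ⟨v, hvT, rfl⟩
    exact ⟨v.1, ⟨hvT, v.2.1⟩, rfl⟩

theorem exists_pos_smul {n : ICone} {v w : Orth n} (h : ∀ i j, w.1 i * v.1 j = w.1 j * v.1 i) :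
    ∃ c : ℝ, 0 < c ∧ w.1 = c • v.1 := by
  obtain ⟨j, hj⟩ : ∃ j, v.1 j ≠ 0 := by
    by_contra hh; push Not at hh; exact v.2.2 (funext hh)
  have hw : w.1 = (w.1 j / v.1 j) • v.1 := funext fun i => by
    rw [Pi.smul_apply, smul_eq_mul, div_mul_eq_mul_div, eq_div_iff hj]; exact h i j
  exact ⟨_, lt_of_le_of_ne (div_nonneg (w.2.1 j) (v.2.1 j))
    (fun h0 => w.2.2 (by rw [hw, ← h0, zero_smul])), hw⟩

theorem isClosed_ray {n : ICone} (v : Orth n) : IsClosed {w : Orth n | ∃ c : ℝ, 0 < c ∧ w.1 = c • v.1} := by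
  have h : {w : Orth n | ∃ c : ℝ, 0 < c ∧ w.1 = c • v.1} =
      ⋂ i, ⋂ j, {w : Orth n | w.1 i * v.1 j = w.1 j * v.1 i} := by
    ext w
    simp only [Set.mem_iInter, Set.mem_setOf_eq]
    exact ⟨fun ⟨c, _, hc⟩ i j => by simp [hc, mul_assoc, mul_comm (v.1 i)], exists_pos_smul⟩
  rw [h]
  exact isClosed_iInter fun i => isClosed_iInter fun j => isClosed_eq
    (((continuous_apply i).comp continuous_val).mul continuous_const)
    (((continuous_apply j).comp continuous_val).mul continuous_const)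

theorem isClosedMap_map {ψ : F ⟶ G} (hψ : IsBoundedMap ψ) : IsClosedMap (P.map ψ) := fun C hC =>
  (isClosed_iff _).mpr fun n ξ => by
    obtain ⟨s, hs₁, hs₂⟩ := exists_range_cells hψ ξ
    have h : P.mk ξ ⁻¹' (P.map ψ '' C) = ⋃ e ∈ s, push e.2.2 '' (P.mk e.2.1 ⁻¹' C) := by
      ext v
      simp only [Set.mem_preimage, Set.mem_iUnion, Set.mem_image, exists_prop]
      constructor
      · rintro ⟨x, hx, hxv⟩
        obtain ⟨e, he, y, hy₁, hy₂⟩ := hs₂ x v hxv
        exact ⟨e, he, y, hy₂.symm ▸ hx, hy₁⟩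
      · rintro ⟨e, he, y, hy, rfl⟩
        exact ⟨_, hy, by rw [map_mk, hs₁ e he, mk_map_push]⟩
    rw [h]
    exact isClosed_biUnion_finset fun e _ =>
      (isClosedEmbedding_push _).isClosedMap _ (((isClosed_iff C).mp hC) _ _)

theorem isClosed_image (hF : F.IsQuasiSeparated) {n : ICone} (ξ : F.obj (op n)) {S : Set (Orth n)}
    (hS : IsClosed S) (hinv : ∀ v w : Orth n, v ∈ S → ∀ c : ℝ, 0 < c → w.1 = c • v.1 → w ∈ S) :
    IsClosed (P.mk ξ '' S) := by
  refine (isClosed_iff _).mpr fun n' ξ' => ?_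
  obtain ⟨s, hs₁, hs₂⟩ := exists_pairs hF ξ' ξ
  have h : P.mk ξ' ⁻¹' (P.mk ξ '' S) = ⋃ e ∈ s, push e.2.1 '' (push e.2.2 ⁻¹' S) := by
    ext v
    simp only [Set.mem_preimage, Set.mem_iUnion, Set.mem_image, exists_prop]
    constructor
    · rintro ⟨w, hw, hwv⟩
      obtain ⟨e, he, y, c, hc, hy₁, hy₂⟩ := (hs₂ v w).mp hwv.symm
      refine ⟨e, he, y, hinv w _ hw c⁻¹ (inv_pos.mpr hc) ?_, hy₁⟩
      rw [hy₂, smul_smul, inv_mul_cancel₀ hc.ne', one_smul]; rfl
    · rintro ⟨e, he, y, hy, rfl⟩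
      exact ⟨_, hy, ((hs₂ _ _).mpr ⟨e, he, y, 1, one_pos, rfl, (one_smul ℝ _).symm⟩).symm⟩
  rw [h]
  exact isClosed_biUnion_finset fun e _ =>
    (isClosedEmbedding_push _).isClosedMap _ (hS.preimage (isClosedEmbedding_push _).continuous)

theorem isClosed_cell (hF : F.IsQuasiSeparated) {n : ICone} (ξ : F.obj (op n)) : IsClosed (P.cell ξ) := by
  rw [P.cell, ← Set.image_univ]
  exact isClosed_image hF ξ isClosed_univ fun _ _ _ _ _ _ => Set.mem_univ _

theorem isClosed_iff_cell (hF : F.IsQuasiSeparated) (S : Set (P F)) :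
    IsClosed S ↔ ∀ (n : ICone) (ξ : F.obj (op n)), IsClosed (S ∩ P.cell ξ) := by
  refine ⟨fun h n ξ => h.inter (isClosed_cell hF ξ), fun h => (isClosed_iff S).mpr fun n ξ => ?_⟩
  have := (h n ξ).preimage (continuous_mk ξ)
  rwa [Set.preimage_inter, P.cell, Set.preimage_range, Set.inter_univ] at this

theorem isClosed_point (hF : F.IsQuasiSeparated) (x : P F) : IsClosed ({x} : Set (P F)) := by
  obtain ⟨n, ξ, v, rfl⟩ := exists_mk x
  have h : P.mk ξ '' {w : Orth n | ∃ c : ℝ, 0 < c ∧ w.1 = c • v.1} = {P.mk ξ v} := by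
    ext z
    simp only [Set.mem_image, Set.mem_singleton_iff, Set.mem_setOf_eq]
    exact ⟨fun ⟨w, ⟨c, hc, hw⟩, hz⟩ => hz.symm.trans (mk_eq_of_smul ξ hc hw).symm,
      fun hz => ⟨v, ⟨1, one_pos, (one_smul ℝ _).symm⟩, hz.symm⟩⟩
  rw [← h]
  refine isClosed_image hF ξ (isClosed_ray v) fun a b ⟨c, hc, ha⟩ d hd hb => ⟨d * c, mul_pos hd hc, ?_⟩
  rw [hb, ha, smul_smul]

theorem isClosed_of_finite_inter (hF : F.IsQuasiSeparated) {S : Set (P F)}
    (h : ∀ (n : ICone) (ξ : F.obj (op n)), (S ∩ P.cell ξ).Finite) : IsClosed S :=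
  (isClosed_iff_cell hF S).mpr fun n ξ => by
    rw [← Set.biUnion_of_singleton (S ∩ P.cell ξ)]
    exact (h n ξ).isClosed_biUnion fun x _ => isClosed_point hF x

theorem isClosed_setOf_mk_eq (hF : F.IsQuasiSeparated) {n : ICone} (τ₁ τ₂ : F.obj (op n)) :
    IsClosed {v : Orth n | P.mk τ₁ v = P.mk τ₂ v} := by
  obtain ⟨s, hs₁, hs₂⟩ := exists_pairs hF τ₁ τ₂
  have h : {v : Orth n | P.mk τ₁ v = P.mk τ₂ v} = ⋃ e ∈ s, push e.2.1 ''
      {y : Orth e.1 | ∀ i j, (push e.2.1 y).1 i * (push e.2.2 y).1 j = (push e.2.1 y).1 j * (push e.2.2 y).1 i} := by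
    ext v
    simp only [Set.mem_setOf_eq, Set.mem_iUnion, Set.mem_image, exists_prop]
    constructor
    · intro hv
      obtain ⟨e, he, y, c, hc, hy₁, hy₂⟩ := (hs₂ v v).mp hv
      refine ⟨e, he, y, fun i j => ?_, hy₁⟩
      rw [hy₁, hy₂]
      simp only [Pi.smul_apply, smul_eq_mul]
      show c * (push e.2.2 y).1 i * (push e.2.2 y).1 j = c * (push e.2.2 y).1 j * (push e.2.2 y).1 i
      ring
    · rintro ⟨e, he, y, hy, rfl⟩
      obtain ⟨c, hc, hcy⟩ := exists_pos_smul hy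
      exact (hs₂ _ _).mpr ⟨e, he, y, c, hc, rfl, hcy⟩
  rw [h]
  refine isClosed_biUnion_finset fun e _ => (isClosedEmbedding_push _).isClosedMap _ ?_
  simp only [Set.setOf_forall]
  have hc : ∀ (φ : e.1 ⟶ n) (i : Fin n.dim), Continuous fun y : Orth e.1 => (push φ y).1 i := fun φ i =>
    (continuous_apply i).comp (continuous_val.comp (isClosedEmbedding_push φ).continuous)
  exact isClosed_iInter fun i => isClosed_iInter fun j => isClosed_eq ((hc _ i).mul (hc _ j)) ((hc _ j).mul (hc _ i))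

/-- Rational vectors: positive multiples of the image of a ray. -/
def RatSet (n : ICone) : Set (Orth n) :=
  {v | ∃ (φ : one ⟶ n) (c : ℝ), 0 < c ∧ v.1 = c • φ.realMap (Orth.ones one).1}

theorem isRational_mk {n : ICone} (ξ : F.obj (op n)) {v : Orth n} (hv : v ∈ RatSet n) : (P.mk ξ v).IsRational := by
  obtain ⟨φ, c, hc, h⟩ := hv
  exact ⟨F.map φ.op ξ, (mk_glue φ ξ _ v c hc h).symm⟩

theorem dense_ratSet (n : ICone) : Dense (RatSet n) := by
  classical
  intro v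
  refine closure_subtype.mpr (Metric.mem_closure_iff.mpr fun ε hε => ?_)
  obtain ⟨i₀, hi₀⟩ : ∃ i, v.1 i ≠ 0 := by
    by_contra hh; push Not at hh; exact v.2.2 (funext hh)
  set S := Finset.univ.filter fun i => v.1 i ≠ 0 with hS
  have hSne : S.Nonempty := ⟨i₀, by simp [hS, hi₀]⟩
  have hinf : 0 < S.inf' hSne v.1 := (Finset.lt_inf'_iff _).mpr fun i hi =>
    lt_of_le_of_ne (v.2.1 i) (Ne.symm (by simpa [hS] using hi))
  obtain ⟨f, hf⟩ := exists_ratLin_approx (Finset.univ.image v.1) (lt_min hε hinf)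
  obtain ⟨D, z, hD, hz⟩ := exists_int_mul fun i => f (v.1 i)
  have hzR : ∀ i, (z i : ℝ) = D * (f (v.1 i) : ℝ) := fun i => by exact_mod_cast hz i
  have hclose : ∀ i, |(f (v.1 i) : ℝ) - v.1 i| < min ε (S.inf' hSne v.1) := fun i =>
    hf _ (Finset.mem_image_of_mem _ (Finset.mem_univ i))
  have hfpos : ∀ i, v.1 i ≠ 0 → (0 : ℝ) < f (v.1 i) := fun i hi => by
    have h1 := (abs_lt.mp ((hclose i).trans_le (min_le_right _ _))).1
    have h2 : S.inf' hSne v.1 ≤ v.1 i := Finset.inf'_le _ (by simp [hS, hi])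
    linarith
  have hfnn : ∀ i, (0 : ℝ) ≤ f (v.1 i) := fun i => by
    rcases eq_or_ne (v.1 i) 0 with h | h
    · rw [h, map_zero, Rat.cast_zero]
    · exact (hfpos i h).le
  have hznn : ∀ i, 0 ≤ z i := fun i => by
    have : (0 : ℝ) ≤ (z i : ℝ) := by rw [hzR]; exact mul_nonneg (Nat.cast_nonneg _) (hfnn i)
    exact_mod_cast this
  have hz0 : z i₀ ≠ 0 := fun h => by
    have := hzR i₀
    rw [h, Int.cast_zero] at this
    exact (mul_pos (by exact_mod_cast hD) (hfpos i₀ hi₀)).ne this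
  haveI : Subsingleton (Fin (one.dim : ℕ)) := inferInstanceAs (Subsingleton (Fin 1))
  let φ : one ⟶ n :=
    ⟨LinearMap.smulRight (LinearMap.proj (⟨0, one.dim.pos⟩ : Fin one.dim)) z, fun x x' hxx => funext fun a => by
      obtain rfl := Subsingleton.elim a (⟨0, one.dim.pos⟩ : Fin one.dim)
      exact mul_right_cancel₀ hz0 (congr_fun hxx i₀), fun x hx j => mul_nonneg (hx _) (hznn j)⟩
  have hD' : (0 : ℝ) < (D : ℝ)⁻¹ := inv_pos.mpr (by exact_mod_cast hD)
  refine ⟨_, ⟨scale _ hD' (push φ (Orth.ones one)), ⟨φ, _, hD', rfl⟩, rfl⟩, ?_⟩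
  rw [dist_comm, dist_pi_lt_iff hε]
  intro i
  have hi : φ.realMap (Orth.ones one).1 i = z i := by
    show ∑ a, ((((Pi.single a 1 : Fin one.dim → ℤ) ⟨0, one.dim.pos⟩) * z i : ℤ) : ℝ) * 1 = z i
    rw [Fintype.sum_subsingleton _ (⟨0, one.dim.pos⟩ : Fin one.dim), Pi.single_eq_same, one_mul, mul_one]
  show dist ((D : ℝ)⁻¹ * φ.realMap (Orth.ones one).1 i) (v.1 i) < ε
  rw [hi, hzR, ← mul_assoc, inv_mul_cancel₀ (by exact_mod_cast hD.ne'), one_mul, Real.dist_eq]
  exact (hclose i).trans_le (min_le_left _ _)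

/-- A closed set of the orthant containing the rational vectors is everything. -/
theorem eq_univ_of_ratSet_subset {n : ICone} {S : Set (Orth n)} (hS : IsClosed S) (h : RatSet n ⊆ S) :
    S = Set.univ :=
  Set.univ_subset_iff.mp ((dense_ratSet n).closure_eq ▸ closure_minimal h hS)

/-- The vectors with coordinate sum one. -/
def simplex (n : ICone) : Set (Orth n) := {v | ∑ i, v.1 i = 1}

theorem isCompact_simplex (n : ICone) : IsCompact (simplex n) := by
  refine (Topology.IsInducing.isCompact_iff (f := fun v : Orth n => v.1) ⟨rfl⟩).mpr ?_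
  convert isCompact_stdSimplex ℝ (Fin n.dim) using 1
  ext w
  simp only [Set.mem_image]
  exact ⟨fun ⟨v, hv, e⟩ => e ▸ ⟨v.2.1, hv⟩, fun hw =>
    ⟨⟨w, hw.1, fun h => by simpa [h] using hw.2⟩, hw.2, rfl⟩⟩

theorem sum_pos {n : ICone} (v : Orth n) : 0 < ∑ i, v.1 i := by
  obtain ⟨i₀, hi₀⟩ : ∃ i, v.1 i ≠ 0 := by
    by_contra hh; push Not at hh; exact v.2.2 (funext hh)
  exact Finset.sum_pos' (fun i _ => v.2.1 i) ⟨i₀, Finset.mem_univ _, lt_of_le_of_ne (v.2.1 i₀) (Ne.symm hi₀)⟩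

theorem exists_mem_simplex {n : ICone} (ξ : F.obj (op n)) (v : Orth n) :
    ∃ w ∈ simplex n, P.mk ξ w = P.mk ξ v :=
  ⟨scale _ (inv_pos.mpr (sum_pos v)) v, by
    show ∑ i, ((∑ i, v.1 i)⁻¹ • v.1) i = 1
    simp only [Pi.smul_apply, smul_eq_mul, ← Finset.mul_sum]
    exact inv_mul_cancel₀ (sum_pos v).ne', mk_scale ξ _ _ v⟩

theorem isCompact_cell {n : ICone} (ξ : F.obj (op n)) : IsCompact (P.cell ξ) := by
  have : P.cell ξ = P.mk ξ '' simplex n :=
    Set.Subset.antisymm (fun x ⟨v, hv⟩ => by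
      obtain ⟨w, hw, e⟩ := exists_mem_simplex ξ v
      exact ⟨w, hw, e.trans hv⟩) (Set.image_subset_range _ _)
  rw [this]
  exact (isCompact_simplex n).image (continuous_mk ξ)

end Groth.Agent.InstabFan
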