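import Groth.Prelude.Def_W4c6instabfans3FanCvx
import Groth.Agent.InstabFan.Bounded
import Mathlib.Topology.UnitInterval
import Mathlib.Analysis.Convex.Topology

/-!
# Segments in convex subsets of the projective realization
-/

universe u

open CategoryTheory Opposite Topology

namespace Groth.Agent.InstabFan

open Instab Instab.Fan

variable {F : Fan.{u}} {U : Set (P F)}

theorem segment_ne_zero {n : ICone} (v v' : Orth n) {a b : ℝ} (ha : 0 ≤ a) (hb : 0 ≤ b) (hab : a + b = 1) :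
    (∀ i, 0 ≤ (a • v.1 + b • v'.1) i) ∧ a • v.1 + b • v'.1 ≠ 0 := by
  refine ⟨fun i => add_nonneg (mul_nonneg ha (v.2.1 i)) (mul_nonneg hb (v'.2.1 i)), fun h => ?_⟩
  have h1 : ∑ i, (a • v.1 + b • v'.1) i = 0 := by rw [h]; simp
  simp only [Pi.add_apply, Pi.smul_apply, smul_eq_mul, Finset.sum_add_distrib, ← Finset.mul_sum] at h1
  rcases ha.lt_or_eq with ha' | rfl
  · nlinarith [mul_pos ha' (sum_pos v), mul_nonneg hb (sum_pos v').le]
  · rw [zero_add] at hab
    rw [hab, zero_mul, zero_add, one_mul] at h1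
    exact (sum_pos v').ne' h1

/-- Inside a locally convex set, two points of one rational simplex are joined by the straight segment. -/
theorem exists_segment (hU : IsLocallyConvex U) {n : ICone} (ξ : F.obj (op n)) (v v' : Orth n)
    (hv : P.mk ξ v ∈ U) (hv' : P.mk ξ v' ∈ U) :
    ∃ γ : unitInterval → U, Continuous γ ∧ (γ 0 : P F) = P.mk ξ v ∧ (γ 1 : P F) = P.mk ξ v' ∧
      ∀ t : unitInterval, 0 < (t : ℝ) → (t : ℝ) < 1 → ∃ w : Orth n,
        (γ t : P F) = P.mk ξ w ∧ w.1 = (1 - (t : ℝ)) • v.1 + (t : ℝ) • v'.1 := by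
  let w : unitInterval → Orth n := fun t =>
    ⟨(1 - (t : ℝ)) • v.1 + (t : ℝ) • v'.1, segment_ne_zero v v' (sub_nonneg.mpr t.2.2) t.2.1 (sub_add_cancel _ _)⟩
  have hw0 : w 0 = v := Subtype.ext (by simp [w])
  have hw1 : w 1 = v' := Subtype.ext (by simp [w])
  have hmem : ∀ t, P.mk ξ (w t) ∈ U := fun t => by
    rcases t.2.1.lt_or_eq with h0 | h0
    rcases t.2.2.lt_or_eq with h1 | h1
    · exact hU n ξ v (w t) v' hv hv' ⟨_, _, sub_pos.mpr h1, h0, rfl⟩
    · rw [show t = 1 from Subtype.ext h1, hw1]; exact hv'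
    · rw [show t = 0 from Subtype.ext h0.symm, hw0]; exact hv
  refine ⟨fun t => ⟨P.mk ξ (w t), hmem t⟩, ?_, congrArg (P.mk ξ) hw0, congrArg (P.mk ξ) hw1, fun t _ _ => ⟨w t, rfl, rfl⟩⟩
  refine Continuous.subtype_mk ((continuous_mk ξ).comp ?_) _
  exact Continuous.subtype_mk (((continuous_const.sub continuous_subtype_val).smul continuous_const).add
    (continuous_subtype_val.smul continuous_const)) _

theorem exists_ne_parallel {n : ICone} {ξ : F.obj (op n)} {v v' : Orth n} (h : P.mk ξ v ≠ P.mk ξ v') :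
    ¬ ∃ c : ℝ, v'.1 = c • v.1 := by
  rintro ⟨c, hc⟩
  have hc' : 0 < c := by
    have h1 : ∑ i, v'.1 i = c * ∑ i, v.1 i := by simp [hc, Finset.mul_sum]
    exact (mul_pos_iff_of_pos_right (sum_pos v)).mp (h1 ▸ sum_pos v')
  exact h (mk_eq_of_smul ξ hc' hc)

theorem basis_ne_parallel : ¬ ∃ c : ℝ, (Orth.basis Fan.two 1).1 = c • (Orth.basis Fan.two 0).1 := by
  rintro ⟨c, hc⟩
  have := congr_fun hc 1
  rw [Pi.smul_apply, smul_eq_mul] at this
  simp only [Orth.basis, if_pos] at this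
  rw [if_neg (by decide), mul_zero] at this
  exact one_ne_zero this

/-- A realizable set contains, around each of its points, a rational simplex through the point. -/
theorem exists_cell_subset (hU : IsRealizable U) {x : P F} (hx : x ∈ U) :
    ∃ (n : ICone) (ξ : F.obj (op n)) (v : Orth n), P.mk ξ v = x ∧ ∀ w, P.mk ξ w ∈ U := by
  obtain ⟨S, rfl⟩ := hU
  obtain ⟨a, rfl⟩ := hx
  obtain ⟨n, σ, v, rfl⟩ := exists_mk a
  exact ⟨n, σ.1, v, rfl, fun w => ⟨P.mk σ w, rfl⟩⟩

/-- Rational points are dense in a realizable set. -/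
theorem exists_rational_mem_of_mem_nhds (hU : IsRealizable U) (x : U) {A : Set U} (hA : A ∈ nhds x) :
    ∃ y ∈ A, (y : P F).IsRational := by
  obtain ⟨n, ξ, v, hv, hcell⟩ := exists_cell_subset hU x.2
  let f : Orth n → U := fun w => ⟨P.mk ξ w, hcell w⟩
  have hf : Continuous f := (continuous_mk ξ).subtype_mk _
  obtain ⟨O, hOA, hO, hxO⟩ := mem_nhds_iff.mp hA
  obtain ⟨w, hw1, hw2⟩ := (dense_ratSet n).inter_open_nonempty _ (hO.preimage hf)
    ⟨v, show f v ∈ O by rw [show f v = x from Subtype.ext hv]; exact hxO⟩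
  exact ⟨f w, hOA hw1, isRational_mk ξ hw2⟩

end Groth.Agent.InstabFan
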