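import Groth.Prelude.Def_W4c6instabfans3FanCvx
import Groth.Agent.InstabFan.Bounded

/-!
# The fan of a family of rational polyhedral cones
-/

open CategoryTheory Opposite Topology

namespace Groth.Agent.InstabFan

open Instab Instab.Fan

variable {N : ℕ}

/-- Nonnegative real combinations of a finite set of integer vectors. -/
def coneHull (s : Finset (Fin N → ℤ)) : Set (Fin N → ℝ) :=
  {x | ∃ c : (Fin N → ℤ) → ℝ, (∀ g, 0 ≤ c g) ∧ x = Finset.sum s fun g => c g • fun j => (g j : ℝ)}

theorem smul_mem_coneHull {s : Finset (Fin N → ℤ)} {x : Fin N → ℝ} (hx : x ∈ coneHull s) {r : ℝ} (hr : 0 ≤ r) :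
    r • x ∈ coneHull s := by
  obtain ⟨c, hc, rfl⟩ := hx
  exact ⟨fun g => r * c g, fun g => mul_nonneg hr (hc g), by simp [Finset.smul_sum, smul_smul]⟩

/-- Independence of a set of integer vectors over the reals. -/
def Indep (t : Finset (Fin N → ℤ)) : Prop :=
  ∀ r : (Fin N → ℤ) → ℝ, (Finset.sum t fun g => r g • fun j => (g j : ℝ)) = 0 → ∀ g ∈ t, r g = 0

theorem exists_indep (s : Finset (Fin N → ℤ)) :
    ∀ c : (Fin N → ℤ) → ℝ, (∀ g, 0 ≤ c g) → ∃ t ⊆ s, Indep t ∧
      ∃ c' : (Fin N → ℤ) → ℝ, (∀ g, 0 ≤ c' g) ∧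
        (Finset.sum s fun g => c g • fun j => (g j : ℝ)) = Finset.sum t fun g => c' g • fun j => (g j : ℝ) := by
  classical
  induction s using Finset.strongInduction with
  | H s ih =>
    intro c hc
    by_cases h : Indep s
    · exact ⟨s, subset_rfl, h, c, hc, rfl⟩
    · simp only [Indep, not_forall, exists_prop] at h
      obtain ⟨r, hr, g₁, hg₁, hg₁r⟩ := h
      -- make some coefficient positive
      obtain ⟨r, hr, g₁, hg₁, hg₁r⟩ : ∃ r : (Fin N → ℤ) → ℝ, (Finset.sum s fun g => r g • fun j => (g j : ℝ)) = 0 ∧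
          ∃ g ∈ s, 0 < r g := by
        rcases lt_or_gt_of_ne hg₁r with hneg | hpos
        · exact ⟨-r, by simp [neg_smul, hr], g₁, hg₁, neg_pos.mpr hneg⟩
        · exact ⟨r, hr, g₁, hg₁, hpos⟩
      obtain ⟨g₀, hg₀, hmin⟩ := (s.filter fun g => 0 < r g).exists_min_image (fun g => c g / r g)
        ⟨g₁, Finset.mem_filter.mpr ⟨hg₁, hg₁r⟩⟩
      obtain ⟨hg₀s, hg₀r⟩ := Finset.mem_filter.mp hg₀
      set T := c g₀ / r g₀ with hT
      have hT0 : 0 ≤ T := div_nonneg (hc _) hg₀r.le
      let c' : (Fin N → ℤ) → ℝ := fun g => if g ∈ s then c g - T * r g else 0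
      have hc' : ∀ g, 0 ≤ c' g := fun g => by
        by_cases hg : g ∈ s
        · rw [show c' g = c g - T * r g from if_pos hg, sub_nonneg]
          rcases lt_or_ge 0 (r g) with hpos | hneg
          · exact (le_div_iff₀ hpos).mp (hmin g (Finset.mem_filter.mpr ⟨hg, hpos⟩))
          · exact (mul_nonpos_of_nonneg_of_nonpos hT0 hneg).trans (hc g)
        · rw [show c' g = 0 from if_neg hg]
      have hsum : (Finset.sum s fun g => c g • fun j => (g j : ℝ)) =
          Finset.sum (s.erase g₀) fun g => c' g • fun j => (g j : ℝ) := by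
        have hz : c' g₀ = 0 := by
          rw [show c' g₀ = c g₀ - T * r g₀ from if_pos hg₀s, hT, div_mul_cancel₀ _ hg₀r.ne', sub_self]
        rw [Finset.sum_erase _ (by rw [hz, zero_smul])]
        calc (Finset.sum s fun g => c g • fun j => (g j : ℝ))
            = (Finset.sum s fun g => c g • fun j => (g j : ℝ)) - T • Finset.sum s fun g => r g • fun j => (g j : ℝ) := by
              rw [hr, smul_zero, sub_zero]
          _ = _ := by
              rw [Finset.smul_sum, ← Finset.sum_sub_distrib]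
              exact Finset.sum_congr rfl fun g hg => by rw [show c' g = c g - T * r g from if_pos hg, sub_smul, smul_smul]
      obtain ⟨t, ht, hti, c'', hc'', e⟩ := ih _ (Finset.erase_ssubset hg₀s) c' hc'
      exact ⟨t, ht.trans (Finset.erase_subset _ _), hti, c'', hc'', hsum.trans e⟩

/-- The lattice map of a finite set of vectors. -/
noncomputable def genMap (t : Finset (Fin N → ℤ)) : (Fin t.card → ℤ) →ₗ[ℤ] (Fin N → ℤ) where
  toFun x := ∑ i, (x i • (t.equivFin.symm i).1 : Fin N → ℤ)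
  map_add' x y := by simp [add_smul, Finset.sum_add_distrib]
  map_smul' m x := by simp [Finset.smul_sum, mul_assoc]

theorem lift_genMap (t : Finset (Fin N → ℤ)) (y : Fin t.card → ℝ) :
    lift (genMap t) y = ∑ i, y i • fun j => ((t.equivFin.symm i).1 j : ℝ) := by
  classical
  funext j
  rw [Finset.sum_apply]
  show ∑ i, (genMap t (Pi.single i 1) j : ℝ) * y i = _
  refine Finset.sum_congr rfl fun i _ => ?_
  have : genMap t (Pi.single i 1) = (t.equivFin.symm i).1 := by
    show ∑ l, (Pi.single i 1 : Fin t.card → ℤ) l • (t.equivFin.symm l).1 = _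
    rw [Finset.sum_eq_single i (fun l _ hl => by simp [hl]) (fun h => absurd (Finset.mem_univ _) h)]
    simp
  rw [this, Pi.smul_apply, smul_eq_mul, mul_comm]

theorem sum_equiv (t : Finset (Fin N → ℤ)) (c : (Fin N → ℤ) → ℝ) :
    (Finset.sum t fun g => c g • fun j => (g j : ℝ)) = lift (genMap t) fun i => c (t.equivFin.symm i).1 := by
  rw [lift_genMap, ← Finset.sum_coe_sort t, ← t.equivFin.symm.sum_comp]

theorem exists_coeff (t : Finset (Fin N → ℤ)) (y : Fin t.card → ℝ) :
    ∃ c : (Fin N → ℤ) → ℝ, ((∀ i, 0 ≤ y i) → ∀ g, 0 ≤ c g) ∧ ∀ i, c (t.equivFin.symm i).1 = y i := by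
  classical
  refine ⟨fun g => if h : g ∈ t then y (t.equivFin ⟨g, h⟩) else 0, fun hy g => ?_, fun i => ?_⟩
  · dsimp only; split
    · exact hy _
    · exact le_rfl
  · simp

theorem genMap_injective {t : Finset (Fin N → ℤ)} (ht : Indep t) : Function.Injective (genMap t) := by
  classical
  refine (injective_iff_map_eq_zero _).mpr fun x hx => funext fun i => ?_
  obtain ⟨c, -, hc⟩ := exists_coeff t (fun i => (x i : ℝ))
  have h := ht c (by
    rw [sum_equiv, funext hc, lift_intCast, hx]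
    funext j; simp) _ (t.equivFin.symm i).2
  rw [hc] at h
  exact_mod_cast h

theorem lift_genMap_mem {t s : Finset (Fin N → ℤ)} (hts : t ⊆ s) {y : Fin t.card → ℝ} (hy : ∀ i, 0 ≤ y i) :
    lift (genMap t) y ∈ coneHull s := by
  classical
  obtain ⟨c, hc0, hc⟩ := exists_coeff t y
  refine ⟨fun g => if g ∈ t then c g else 0, fun g => by
    dsimp only; split
    · exact hc0 hy g
    · exact le_rfl, ?_⟩
  rw [← funext hc, ← sum_equiv]
  rw [← Finset.sum_subset hts (f := fun g => (if g ∈ t then c g else 0) • fun j => (g j : ℝ))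
    (fun g _ hg => by rw [if_neg hg, zero_smul])]
  exact Finset.sum_congr rfl fun g hg => by rw [if_pos hg]

theorem exists_indep_lift {s : Finset (Fin N → ℤ)} {x : Fin N → ℝ} (hx : x ∈ coneHull s) :
    ∃ t ⊆ s, Indep t ∧ ∃ y : Fin t.card → ℝ, (∀ i, 0 ≤ y i) ∧ lift (genMap t) y = x := by
  obtain ⟨c, hc, rfl⟩ := hx
  obtain ⟨t, ht, hti, c', hc', e⟩ := exists_indep s c hc
  exact ⟨t, ht, hti, _, fun i => hc' _, (sum_equiv t c').symm.trans e.symm⟩

theorem isClosed_coneHull (s : Finset (Fin N → ℤ)) : IsClosed (coneHull s) := by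
  classical
  have h : coneHull s = ⋃ t ∈ s.powerset.filter Indep, lift (genMap t) '' {y | ∀ i, 0 ≤ y i} := by
    ext x
    simp only [Set.mem_iUnion, Finset.mem_filter, Finset.mem_powerset, Set.mem_image, exists_prop]
    constructor
    · intro hx
      obtain ⟨t, ht, hti, y, hy, e⟩ := exists_indep_lift hx
      exact ⟨t, ⟨ht, hti⟩, y, hy, e⟩
    · rintro ⟨t, ⟨ht, -⟩, y, hy, rfl⟩
      exact lift_genMap_mem ht hy
  rw [h]
  refine isClosed_biUnion_finset fun t ht => ?_
  exact (LinearMap.isClosedEmbedding_of_injective (LinearMap.ker_eq_bot.mpr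
    (lift_injective (genMap_injective (Finset.mem_filter.mp ht).2)))).isClosedMap _
    (by simp only [Set.setOf_forall]; exact isClosed_iInter fun i => isClosed_le continuous_const (continuous_apply i))

theorem rays_t2 : T2Space (Rays N) := by
  let f : Rays N → (Fin N → ℝ) := Quot.lift (fun w => ‖w.1‖⁻¹ • w.1) (by
    rintro v w ⟨c, hc, h⟩
    rw [h, norm_smul, Real.norm_of_nonneg hc.le, mul_inv, smul_smul, mul_comm c⁻¹, mul_assoc, inv_mul_cancel₀ hc.ne', mul_one])
  refine T2Space.of_injective_continuous (f := f) ?_ ?_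
  · intro x y h
    induction x using Quot.ind with
    | mk v =>
      induction y using Quot.ind with
      | mk w =>
        change ‖v.1‖⁻¹ • v.1 = ‖w.1‖⁻¹ • w.1 at h
        refine Quot.sound ⟨‖w.1‖ * ‖v.1‖⁻¹, mul_pos (norm_pos_iff.mpr w.2) (inv_pos.mpr (norm_pos_iff.mpr v.2)), ?_⟩
        rw [mul_smul, h, smul_smul, mul_inv_cancel₀ (norm_ne_zero_iff.mpr w.2), one_smul]
  · exact continuous_quot_lift _ ((continuous_subtype_val.norm.inv₀ fun v => norm_ne_zero_iff.mpr v.2).smul continuous_subtype_val)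

theorem exists_smul_of_ray_eq {v w : {v : Fin N → ℝ // v ≠ 0}}
    (h : (Quot.mk _ v : Rays N) = Quot.mk _ w) : ∃ c : ℝ, 0 < c ∧ w.1 = c • v.1 := by
  have h' := Quot.eqvGen_exact h
  clear h
  induction h' with
  | rel x y hxy => exact hxy
  | refl x => exact ⟨1, one_pos, (one_smul ℝ _).symm⟩
  | symm x y _ ih =>
    obtain ⟨c, hc, e⟩ := ih
    exact ⟨c⁻¹, inv_pos.mpr hc, by rw [e, smul_smul, inv_mul_cancel₀ hc.ne', one_smul]⟩
  | trans x y z _ _ ih ih' =>
    obtain ⟨c, hc, e⟩ := ih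
    obtain ⟨d, hd, e'⟩ := ih'
    exact ⟨d * c, mul_pos hd hc, by rw [e', e, smul_smul]⟩

theorem exists_refine' {k k' : ICone} (φ : (Fin k.dim → ℤ) →ₗ[ℤ] (Fin N → ℤ)) (hφ : Function.Injective φ)
    (ψ : (Fin k'.dim → ℤ) →ₗ[ℤ] (Fin N → ℤ)) (hψ : Function.Injective ψ) (y : Orth k) (y' : Fin k'.dim → ℝ)
    (hy' : ∀ i, 0 ≤ y' i) (h : lift φ y.1 = lift ψ y') :
    ∃ (l : ICone) (a : l ⟶ k) (b : l ⟶ k') (z : Orth l), φ.comp a.toLin = ψ.comp b.toLin ∧ a.realMap z.1 = y.1 ∧
      b.realMap z.1 = y' := by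
  classical
  obtain ⟨d, Φ, z, hinj, hnn, hz, hlift, hker⟩ := exists_int_cone (Sum.elim y.1 y')
    (fun i => by cases i with | inl i => exact y.2.1 i | inr i => exact hy' i)
    (sum_elim_ne_zero y' y.2.2)
  let A : (Fin d → ℤ) →ₗ[ℤ] (Fin k.dim → ℤ) := (LinearMap.funLeft ℤ ℤ Sum.inl).comp Φ
  let B : (Fin d → ℤ) →ₗ[ℤ] (Fin k'.dim → ℤ) := (LinearMap.funLeft ℤ ℤ Sum.inr).comp Φ
  have hcomp : φ.comp A = ψ.comp B := by
    refine LinearMap.ext fun x => funext fun j => ?_
    have h0 := hker (Sum.elim (fun i => φ (Pi.single i 1) j) (fun i => -ψ (Pi.single i 1) j)) (by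
      have h1 := congr_fun h j
      rw [Fintype.sum_sum_type]
      simp only [Sum.elim_inl, Sum.elim_inr, Int.cast_neg, neg_mul, Finset.sum_neg_distrib]
      rw [← sub_eq_add_neg, sub_eq_zero]
      exact h1) x
    rw [Fintype.sum_sum_type] at h0
    simp only [Sum.elim_inl, Sum.elim_inr, neg_mul, Finset.sum_neg_distrib, ← sub_eq_add_neg, sub_eq_zero] at h0
    show φ (A x) j = ψ (B x) j
    rw [apply_eq_sum φ (A x), apply_eq_sum ψ (B x)]
    exact h0
  have hA : Function.Injective A := fun x x' hx => by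
    have hB : B x = B x' := hψ (by
      have h1 := LinearMap.congr_fun hcomp x
      have h2 := LinearMap.congr_fun hcomp x'
      simp only [LinearMap.comp_apply] at h1 h2
      rw [← h1, ← h2, hx])
    refine hinj (funext fun i => ?_)
    cases i with
    | inl i => exact congr_fun hx i
    | inr i => exact congr_fun hB i
  have hB : Function.Injective B := fun x x' hx => hA (hφ (by
    have h1 := LinearMap.congr_fun hcomp x
    have h2 := LinearMap.congr_fun hcomp x'
    simp only [LinearMap.comp_apply] at h1 h2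
    rw [h1, h2, hx]))
  refine ⟨⟨d⟩, ⟨A, hA, fun x hx j => hnn x hx _⟩, ⟨B, hB, fun x hx j => hnn x hx _⟩,
    ⟨z, fun i => (hz i).le, fun h0 => (hz ⟨0, d.pos⟩).ne' (congr_fun h0 _)⟩, hcomp,
    funext fun i => congr_fun hlift (Sum.inl i), funext fun i => congr_fun hlift (Sum.inr i)⟩

end Groth.Agent.InstabFan
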